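import Mathlib.CategoryTheory.EffectiveEpi.Comp
import Mathlib.CategoryTheory.MorphismProperty.Limits
import Mathlib.CategoryTheory.Limits.Shapes.Pullback.HasPullback
import Mathlib.CategoryTheory.Comma.Over.Pullback
import Mathlib.CategoryTheory.EquivalenceRelation
import Mathlib.CategoryTheory.Adjunction.Limits

/-!
# Universal effective epimorphisms

Elementary facts on universal effective epimorphisms (`UE C f`): composition, cancellation,
base change, locality, descent of morphisms into monomorphisms.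
-/

set_option autoImplicit false
open CategoryTheory CategoryTheory.Limits
universe w v₁ u₁

namespace K184.DescCat

variable {C : Type u₁} [Category.{v₁} C]

/-- Universal effective epimorphisms. -/
abbrev UE (C : Type u₁) [Category.{v₁} C] : MorphismProperty C :=
  MorphismProperty.universally (fun (A B : C) (p : A ⟶ B) => EffectiveEpi p)

lemma UE.effectiveEpi {X Y : C} {f : X ⟶ Y} (h : UE C f) : EffectiveEpi f :=
  MorphismProperty.universally_le (fun (A B : C) (p : A ⟶ B) => EffectiveEpi p) f h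

lemma UE.epi {X Y : C} {f : X ⟶ Y} (h : UE C f) : Epi f :=
  have := h.effectiveEpi; inferInstance

lemma UE.of_isPullback {X' Y' X Y : C} {g' : X' ⟶ X} {f' : X' ⟶ Y'} {f : X ⟶ Y} {g : Y' ⟶ Y}
    (h : UE C f) (sq : IsPullback g' f' f g) : UE C f' :=
  (MorphismProperty.universally_isStableUnderBaseChange
    (fun (A B : C) (p : A ⟶ B) => EffectiveEpi p)).of_isPullback sq h

lemma UE.cancel_left {X Y Z : C} (i : X ⟶ Y) [IsIso i] (f : Y ⟶ Z) (h : UE C f) :
    UE C (i ≫ f) :=
  have : (UE C).RespectsIso := MorphismProperty.universally_respectsIso _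
  (MorphismProperty.cancel_left_of_respectsIso (UE C) _ _).2 h

lemma UE.fst [HasPullbacks C] {X Y Z : C} {f : X ⟶ Y} (h : UE C f) (g : Z ⟶ Y) :
    UE C (pullback.fst g f) := h.of_isPullback (IsPullback.of_hasPullback g f).flip

lemma UE.snd [HasPullbacks C] {X Y Z : C} {f : X ⟶ Y} (h : UE C f) (g : Z ⟶ Y) :
    UE C (pullback.snd f g) := h.of_isPullback (IsPullback.of_hasPullback f g)

/-- Two morphisms into the target of a universal epimorphism lift, jointly, after an
epimorphism. -/
lemma exists_lift₂ [HasPullbacks C] {U T Z : C} (v : U ⟶ T)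
    (hv : MorphismProperty.universally (MorphismProperty.epimorphisms C) v) (a b : Z ⟶ T) :
    ∃ (Z' : C) (z : Z' ⟶ Z) (_ : Epi z) (a' b' : Z' ⟶ U), a' ≫ v = z ≫ a ∧ b' ≫ v = z ≫ b := by
  have h₁ : Epi (pullback.snd v a) := hv _ _ _ (IsPullback.of_hasPullback v a).flip
  have h₂ : Epi (pullback.snd v (pullback.snd v a ≫ b)) :=
    hv _ _ _ (IsPullback.of_hasPullback v (pullback.snd v a ≫ b)).flip
  refine ⟨pullback v (pullback.snd v a ≫ b), pullback.snd v (pullback.snd v a ≫ b) ≫
    pullback.snd v a, epi_comp _ _, pullback.snd v (pullback.snd v a ≫ b) ≫ pullback.fst v a,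
    pullback.fst v (pullback.snd v a ≫ b), ?_, ?_⟩
  · simp only [Category.assoc, pullback.condition]
  · simp only [Category.assoc, pullback.condition]

lemma UE.univ_epi {X Y : C} {f : X ⟶ Y} (h : UE C f) :
    MorphismProperty.universally (MorphismProperty.epimorphisms C) f := by
  intro X' Y' i₁ i₂ f' sq
  exact (h.of_isPullback sq.flip).epi

lemma effectiveEpi_comp [HasPullbacks C]
    {U T S : C} (v : U ⟶ T) (u : T ⟶ S) [EffectiveEpi u] [EffectiveEpi v]
    (hv : MorphismProperty.universally (MorphismProperty.epimorphisms C) v) :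
    EffectiveEpi (v ≫ u) := by
  have key : ∀ {W : C} (e : U ⟶ W)
      (_ : ∀ {Z : C} (g₁ g₂ : Z ⟶ U), g₁ ≫ v ≫ u = g₂ ≫ v ≫ u → g₁ ≫ e = g₂ ≫ e),
      ∃ d : S ⟶ W, (v ≫ u) ≫ d = e := by
    intro W e he
    have h1 : ∀ {Z : C} (g₁ g₂ : Z ⟶ U), g₁ ≫ v = g₂ ≫ v → g₁ ≫ e = g₂ ≫ e := by
      intro Z g₁ g₂ h
      exact he g₁ g₂ (by rw [← Category.assoc, h, Category.assoc])
    let e' : T ⟶ W := EffectiveEpi.desc v e h1
    have he' : v ≫ e' = e := EffectiveEpi.fac v e h1
    have h2 : ∀ {Z : C} (g₁ g₂ : Z ⟶ T), g₁ ≫ u = g₂ ≫ u → g₁ ≫ e' = g₂ ≫ e' := by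
      intro Z g₁ g₂ h
      obtain ⟨Z', z, hz, a', b', ha, hb⟩ := exists_lift₂ v hv g₁ g₂
      rw [← cancel_epi z, ← Category.assoc, ← ha, ← Category.assoc, ← hb, Category.assoc,
        Category.assoc, he']
      apply he
      rw [← Category.assoc, ha, ← Category.assoc, hb, Category.assoc, Category.assoc, h]
    exact ⟨EffectiveEpi.desc u e' h2, by rw [Category.assoc, EffectiveEpi.fac, he']⟩
  refine ⟨⟨⟨fun {W} e he => (key e (fun g₁ g₂ h => he g₁ g₂ h)).choose,
    fun {W} e he => (key e (fun g₁ g₂ h => he g₁ g₂ h)).choose_spec, ?_⟩⟩⟩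
  intro W e he m hm
  have := (key e (fun g₁ g₂ h => he g₁ g₂ h)).choose_spec
  have hu : Epi (v ≫ u) := epi_comp _ _
  rw [← cancel_epi (v ≫ u), hm, this]

lemma UE.comp [HasPullbacks C] {U T S : C} {v : U ⟶ T} {u : T ⟶ S} (hv : UE C v) (hu : UE C u) :
    UE C (v ≫ u) := by
  intro X' Y' i₁ i₂ f' sq
  let T' := pullback u i₂
  have sq2 : IsPullback (pullback.fst u i₂) (pullback.snd u i₂) u i₂ := .of_hasPullback _ _
  let k : X' ⟶ T' := pullback.lift (i₁ ≫ v) f' (by rw [Category.assoc, sq.w])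
  have hk : k ≫ pullback.snd u i₂ = f' := pullback.lift_snd _ _ _
  have hk' : k ≫ pullback.fst u i₂ = i₁ ≫ v := pullback.lift_fst _ _ _
  have sq1 : IsPullback i₁ k v (pullback.fst u i₂) :=
    IsPullback.of_bot (by rw [hk]; exact sq.flip) hk'.symm sq2
  have := (hv.of_isPullback sq1)
  have h1 := this.effectiveEpi
  have h2 := (hu.of_isPullback sq2).effectiveEpi
  rw [← hk]
  exact effectiveEpi_comp _ _ this.univ_epi

lemma effectiveEpi_of_comp [HasPullbacks C] {U T S : C} (v : U ⟶ T) (u : T ⟶ S)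
    (h : UE C (v ≫ u)) : EffectiveEpi u := by
  have hE := h.effectiveEpi
  have hepi : Epi u := by
    have := h.epi
    exact epi_of_epi v u
  have key : ∀ {W : C} (e : T ⟶ W)
      (_ : ∀ {Z : C} (g₁ g₂ : Z ⟶ T), g₁ ≫ u = g₂ ≫ u → g₁ ≫ e = g₂ ≫ e),
      ∃ d : S ⟶ W, u ≫ d = e := by
    intro W e he
    have h1 : ∀ {Z : C} (g₁ g₂ : Z ⟶ U), g₁ ≫ v ≫ u = g₂ ≫ v ≫ u →
        g₁ ≫ v ≫ e = g₂ ≫ v ≫ e := by
      intro Z g₁ g₂ hg
      have := he (g₁ ≫ v) (g₂ ≫ v) (by simpa using hg)
      simpa using this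
    refine ⟨EffectiveEpi.desc (v ≫ u) (v ≫ e) h1, ?_⟩
    have hd := EffectiveEpi.fac (v ≫ u) (v ≫ e) h1
    have hep : Epi (pullback.fst u (v ≫ u)) := (h.fst u).epi
    rw [← cancel_epi (pullback.fst u (v ≫ u)), ← Category.assoc, pullback.condition,
      Category.assoc, hd]
    have := he (pullback.snd u (v ≫ u) ≫ v) (pullback.fst u (v ≫ u))
      (by rw [Category.assoc, pullback.condition])
    simpa using this
  refine ⟨⟨⟨fun {W} e he => (key e (fun g₁ g₂ h => he g₁ g₂ h)).choose,
    fun {W} e he => (key e (fun g₁ g₂ h => he g₁ g₂ h)).choose_spec, ?_⟩⟩⟩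
  intro W e he m hm
  rw [← cancel_epi u, hm, (key e (fun g₁ g₂ h => he g₁ g₂ h)).choose_spec]

lemma UE.of_comp [HasPullbacks C] {U T S : C} (v : U ⟶ T) (u : T ⟶ S) (h : UE C (v ≫ u)) :
    UE C u := by
  intro T' S' i₁ i₂ u' sq
  have sq1 : IsPullback (pullback.fst v i₁) (pullback.snd v i₁) v i₁ := .of_hasPullback _ _
  have sq2 := sq1.paste_vert sq.flip
  exact effectiveEpi_of_comp (pullback.snd v i₁) u' (h.of_isPullback sq2)

lemma UE.iff_baseChange [HasPullbacks C] {S' S T : C} {g : S' ⟶ S} (hg : UE C g) (u : T ⟶ S) :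
    UE C u ↔ UE C (pullback.snd u g) := by
  refine ⟨fun h => h.snd g, fun h => ?_⟩
  have := h.comp hg
  rw [← pullback.condition] at this
  exact this.of_comp

lemma isIso_of_mono_of_effectiveEpi {X Y : C} (f : X ⟶ Y) [Mono f] [EffectiveEpi f] : IsIso f :=
  isIso_of_mono_of_strongEpi f

lemma faithful_pullback [HasPullbacks C] {S' S : C} {f : S' ⟶ S} (hf : UE C f) :
    (Over.pullback f).Faithful := by
  constructor
  intro X Y a b hab
  ext1
  have h := congrArg (fun k => k.left ≫ pullback.fst Y.hom f) hab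
  simp only [Over.pullback_map_left] at h
  erw [pullback.lift_fst, pullback.lift_fst] at h
  have := (hf.fst X.hom).epi
  exact (cancel_epi _).1 h

lemma isIso_of_isIso_pullback [HasPullbacks C] {S' S : C} {f : S' ⟶ S} (hf : UE C f)
    {X Y : Over S} (g : X ⟶ Y) [IsIso ((Over.pullback f).map g)] : IsIso g := by
  have hfa := faithful_pullback hf
  have hmono : Mono g := (Over.pullback f).mono_of_mono_map inferInstance
  have h1 : UE C (pullback.fst X.hom f ≫ g.left) := by
    have h2 : UE C (pullback.fst Y.hom f) := hf.fst Y.hom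
    have h3 : ((Over.pullback f).map g).left ≫ pullback.fst Y.hom f =
        pullback.fst X.hom f ≫ g.left := by
      simp only [Over.pullback_map_left]
      erw [pullback.lift_fst]
    rw [← h3]
    have : IsIso ((Over.pullback f).map g).left := by
      have := (Over.forget S').map_isIso ((Over.pullback f).map g)
      exact this
    exact UE.cancel_left _ _ h2
  have h4 : UE C g.left := UE.of_comp _ _ h1
  have := h4.effectiveEpi
  have : Mono g.left := Over.mono_left_of_mono g
  have : IsIso g.left := isIso_of_mono_of_effectiveEpi _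
  have : IsIso ((Over.forget S).map g) := this
  exact isIso_of_reflects_iso g (Over.forget S)

lemma mono_iff_mono_pullback [HasPullbacks C] {S' S : C} {f : S' ⟶ S} (hf : UE C f)
    {X Y : Over S} (g : X ⟶ Y) : Mono g ↔ Mono ((Over.pullback f).map g) := by
  have hfa := faithful_pullback hf
  have : PreservesLimits (Over.pullback f) := (Over.mapPullbackAdj f).rightAdjoint_preservesLimits
  exact ⟨fun h => inferInstance, fun h => (Over.pullback f).mono_of_mono_map h⟩

/-- Descent of morphisms into a monomorphism. -/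
lemma nonempty_hom_of_pullback [HasPullbacks C] {S' S : C} {f : S' ⟶ S} (hf : UE C f)
    (X Y : Over S) [Mono Y.hom]
    (h : Nonempty ((Over.pullback f).obj X ⟶ (Over.pullback f).obj Y)) : Nonempty (X ⟶ Y) := by
  obtain ⟨h⟩ := h
  let p : pullback X.hom f ⟶ X.left := pullback.fst X.hom f
  let k : pullback X.hom f ⟶ Y.left := h.left ≫ pullback.fst Y.hom f
  have hk : k ≫ Y.hom = p ≫ X.hom := by
    have := Over.w h
    dsimp [k, p] at this ⊢
    rw [Category.assoc, pullback.condition, pullback.condition, ← this, Category.assoc]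
  have := (hf.fst X.hom).effectiveEpi
  let d : X.left ⟶ Y.left := EffectiveEpi.desc p k (by
    intro Z g₁ g₂ hg
    rw [← cancel_mono Y.hom, Category.assoc g₁, Category.assoc g₂, hk, reassoc_of% hg])
  have hd : p ≫ d = k := EffectiveEpi.fac _ _ _
  refine ⟨Over.homMk d ?_⟩
  have := (hf.fst X.hom).epi
  rw [← cancel_epi p, reassoc_of% hd, hk]

/-- If `a, b` become equal after composition with `g`, and `f` is a universal epimorphism such
that pairs in the source of `f` equalized by `f ≫ g` are equalized by `f`, then `g` is a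
monomorphism. -/
lemma mono_of_lift [HasPullbacks C] {S' S T : C} {f : S' ⟶ S} (hf : UE C f) (g : S ⟶ T)
    (H : ∀ {Z : C} (a b : Z ⟶ S'), a ≫ f ≫ g = b ≫ f ≫ g → a ≫ f = b ≫ f) : Mono g := by
  constructor
  intro Z a b hab
  obtain ⟨Z', z, hz, a', b', ha, hb⟩ := exists_lift₂ f hf.univ_epi a b
  rw [← cancel_epi z, ← ha, ← hb]
  apply H
  rw [reassoc_of% ha, reassoc_of% hb, hab]

/-- Pullback squares from lifts of generalized elements. -/
lemma isPullback_mk {W X Y Z : C} {fst : W ⟶ X} {snd : W ⟶ Y} {f : X ⟶ Z} {g : Y ⟶ Z}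
    (w : fst ≫ f = snd ≫ g)
    (h : ∀ {T : C} (a : T ⟶ X) (b : T ⟶ Y), a ≫ f = b ≫ g →
      ∃ l : T ⟶ W, l ≫ fst = a ∧ l ≫ snd = b)
    (hu : ∀ {T : C} (l l' : T ⟶ W), l ≫ fst = l' ≫ fst → l ≫ snd = l' ≫ snd → l = l') :
    IsPullback fst snd f g :=
  ⟨⟨w⟩, ⟨PullbackCone.IsLimit.mk _ (fun s => (h s.fst s.snd s.condition).choose)
    (fun s => (h s.fst s.snd s.condition).choose_spec.1)
    (fun s => (h s.fst s.snd s.condition).choose_spec.2)
    (fun s _ h1 h2 => hu _ _ (h1.trans (h s.fst s.snd s.condition).choose_spec.1.symm)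
      (h2.trans (h s.fst s.snd s.condition).choose_spec.2.symm))⟩⟩

attribute [local simp] prod.lift_fst prod.lift_snd

lemma UE.prodMap [HasPullbacks C] [HasBinaryProducts C] {X Y X' Y' : C} {u : X ⟶ Y}
    {u' : X' ⟶ Y'} (hu : UE C u) (hu' : UE C u') : UE C (prod.map u u') := by
  have h1 : IsPullback (prod.fst : X ⨯ X' ⟶ X) (prod.map u (𝟙 X')) u
      (prod.fst : Y ⨯ X' ⟶ Y) := by
    refine isPullback_mk (by simp) (fun {T} a b hab => ⟨prod.lift a (b ≫ prod.snd), by simp, ?_⟩)
      (fun {T} l l' h1 h2 => ?_)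
    · apply Limits.prod.hom_ext
      · simpa using hab
      · simp
    · apply Limits.prod.hom_ext
      · exact h1
      · simpa using congrArg (· ≫ prod.snd) h2
  have h2 : IsPullback (prod.snd : Y ⨯ X' ⟶ X') (prod.map (𝟙 Y) u') u'
      (prod.snd : Y ⨯ Y' ⟶ Y') := by
    refine isPullback_mk (by simp) (fun {T} a b hab => ⟨prod.lift (b ≫ prod.fst) a, by simp, ?_⟩)
      (fun {T} l l' h1 h2 => ?_)
    · apply Limits.prod.hom_ext
      · simp
      · simpa using hab
    · apply Limits.prod.hom_ext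
      · simpa using congrArg (· ≫ prod.fst) h2
      · exact h1
  have h3 : prod.map u u' = prod.map u (𝟙 X') ≫ prod.map (𝟙 Y) u' := by simp
  rw [h3]
  exact (hu.of_isPullback h1).comp (hu'.of_isPullback h2)

/-- The product of two kernel pairs is a kernel pair. -/
lemma isKernelPair_prodMap [HasBinaryProducts C] {R X B R' X' B' : C} {p₁ p₂ : R ⟶ X}
    {p₁' p₂' : R' ⟶ X'} {π : X ⟶ B} {π' : X' ⟶ B'} (h : IsKernelPair π p₁ p₂)
    (h' : IsKernelPair π' p₁' p₂') :
    IsKernelPair (prod.map π π') (prod.map p₁ p₁') (prod.map p₂ p₂') := by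
  refine isPullback_mk (by simp [h.w, h'.w]) (fun {T} a b hab => ?_) (fun {T} l l' h1 h2 => ?_)
  · have e1 : (a ≫ prod.fst) ≫ π = (b ≫ prod.fst) ≫ π := by
      simpa using congrArg (· ≫ prod.fst) hab
    have e2 : (a ≫ prod.snd) ≫ π' = (b ≫ prod.snd) ≫ π' := by
      simpa using congrArg (· ≫ prod.snd) hab
    refine ⟨prod.lift (h.lift _ _ e1) (h'.lift _ _ e2), ?_, ?_⟩
    · apply Limits.prod.hom_ext <;> simp
    · apply Limits.prod.hom_ext <;> simp
  · apply Limits.prod.hom_ext
    · apply h.hom_ext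
      · simpa using congrArg (· ≫ prod.fst) h1
      · simpa using congrArg (· ≫ prod.fst) h2
    · apply h'.hom_ext
      · simpa using congrArg (· ≫ prod.snd) h1
      · simpa using congrArg (· ≫ prod.snd) h2

end K184.DescCat
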